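import Groth.Agent.H10Coh.Pn.Results
import Groth.Agent.H10Coh.FinType2
import Mathlib

/-!
# Dimensions of global sections and left exactness
-/

set_option autoImplicit false
set_option linter.style.haveILetI false

universe u

open CategoryTheory CategoryTheory.Limits AlgebraicGeometry TopologicalSpace Opposite

namespace Groth.Agent.H11Plane

variable {k : Type u} [Field k] {X : Scheme.{u}} [X.Over (Spec (CommRingCat.of k))]

/-- The map induced on global sections, linearly. -/
noncomputable def secMap {M N : X.Modules} (φ : M ⟶ N) : Coh.HH X M 0 →ₗ[k] Coh.HH X N 0 where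
  toFun x := (H10Coh.HH0Equiv N).symm (φ.app ⊤ (H10Coh.HH0Equiv M x))
  map_add' a b := by rw [map_add, map_add, map_add]
  map_smul' c x := (H10Coh.HH0Equiv N).injective (by
    rw [AddEquiv.apply_symm_apply]
    refine Eq.trans ?_ (H10Coh.HH0Equiv_smul N (Coh.toGlobal (X ↘ Spec (CommRingCat.of k)) c) _).symm
    rw [AddEquiv.apply_symm_apply]
    exact (congrArg (φ.app ⊤) (H10Coh.HH0Equiv_smul M (Coh.toGlobal (X ↘ Spec (CommRingCat.of k)) c) x)).trans
      (φ.app_smul _ _))

theorem secMap_apply {M N : X.Modules} (φ : M ⟶ N) (x : Coh.HH X M 0) :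
    H10Coh.HH0Equiv N (secMap (k := k) φ x) = φ.app ⊤ (H10Coh.HH0Equiv M x) :=
  (H10Coh.HH0Equiv N).apply_symm_apply _

/-- A submodule has at most as many sections. -/
theorem finrank_h0_le_of_mono {M N : X.Modules} (φ : M ⟶ N) [Mono φ] [FiniteDimensional k (Coh.HH X N 0)] :
    Module.finrank k (Coh.HH X M 0) ≤ Module.finrank k (Coh.HH X N 0) :=
  LinearMap.finrank_le_finrank_of_injective (f := secMap (k := k) φ) fun a b h =>
    (H10Coh.HH0Equiv M).injective (H10Coh.injective_app_of_mono' φ ⊤
      ((secMap_apply φ a).symm.trans ((congrArg _ h).trans (secMap_apply φ b))))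

/-- Sections are subadditive in short exact sequences. -/
theorem finrank_h0_le_of_shortExact {S : ShortComplex X.Modules} (hS : S.ShortExact)
    [FiniteDimensional k (Coh.HH X S.X₁ 0)] [FiniteDimensional k (Coh.HH X S.X₂ 0)]
    [FiniteDimensional k (Coh.HH X S.X₃ 0)] :
    Module.finrank k (Coh.HH X S.X₂ 0) ≤ Module.finrank k (Coh.HH X S.X₁ 0) + Module.finrank k (Coh.HH X S.X₃ 0) := by
  have hex : LinearMap.ker (secMap (k := k) S.g) ≤ LinearMap.range (secMap (k := k) S.f) := fun x hx => by
    have h0 : S.g.app ⊤ (H10Coh.HH0Equiv _ x) = 0 := by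
      rw [← secMap_apply (k := k), LinearMap.mem_ker.1 hx, map_zero]
    obtain ⟨y, hy⟩ := H10Coh.exists_app_eq_of_exact hS ⊤ _ h0
    refine ⟨(H10Coh.HH0Equiv _).symm y, (H10Coh.HH0Equiv _).injective ?_⟩
    rw [secMap_apply, AddEquiv.apply_symm_apply, hy]
  have h1 := LinearMap.finrank_range_add_finrank_ker (secMap (k := k) S.g)
  have h2 := Submodule.finrank_le (LinearMap.range (secMap (k := k) S.g))
  have h3 := (Submodule.finrank_mono hex).trans (LinearMap.finrank_range_le (secMap (k := k) S.f))
  omega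

/-- Without sections of the quotient, the submodule has all sections. -/
theorem finrank_h0_eq_of_shortExact {S : ShortComplex X.Modules} (hS : S.ShortExact)
    [FiniteDimensional k (Coh.HH X S.X₁ 0)] [FiniteDimensional k (Coh.HH X S.X₂ 0)]
    [Subsingleton (Coh.HH X S.X₃ 0)] :
    Module.finrank k (Coh.HH X S.X₂ 0) = Module.finrank k (Coh.HH X S.X₁ 0) := by
  have h := finrank_h0_le_of_shortExact (k := k) hS
  rw [Module.finrank_zero_of_subsingleton (M := Coh.HH X S.X₃ 0), add_zero] at h
  haveI := hS.mono_f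
  exact le_antisymm h (finrank_h0_le_of_mono S.f)

end Groth.Agent.H11Plane
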