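import Groth.Agent.H28RR.PlaneBlow
import Groth.Agent.H28RR.BlowSurf
import Groth.Agent.H28RR.BlowCanon
import Groth.Agent.H28Reg.Basic
import Groth.Agent.H11Plane.SecMap

/-!
# Cohomology of line bundles on the plane blown up at a point

The class of `K` is the pair `(q, e) = (K·H, K·I)` for `H` the pull back of `O(1)` and `I` the ideal
of the exceptional curve.
-/

set_option autoImplicit false
set_option linter.style.haveILetI false
set_option linter.unusedSectionVars false
set_option backward.isDefEq.respectTransparency.types false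

universe u

open CategoryTheory CategoryTheory.Limits AlgebraicGeometry Opposite TopologicalSpace
open Groth.Agent.H28Surf

noncomputable section

namespace Groth.Agent.H11Plane

variable (k : Type u) [Field k] [IsAlgClosed k]
variable {X : Scheme.{u}} [X.Over (Spec (CommRingCat.of k))]
  [IsProper (X ↘ Spec (CommRingCat.of k))] [Smooth (X ↘ Spec (CommRingCat.of k))] [IsIntegral X]

/-- The numerical facts on the blown up plane. -/
structure Ctx (H W : X.Modules) (E : X.IdealSheafData) : Prop where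
  dim : topologicalKrullDim X = 2
  curve : IsCurve E
  invH : PicF.IsInvertible H
  canon : ExtPow.IsExtPow 2 (Omega.sheaf (X ↘ Spec (CommRingCat.of k))) W
  hh : pr k H H = 1
  hw : pr k H W = -3
  ih : pr k (ClSub.idealMod E) H = 0
  ii : pr k (ClSub.idealMod E) (ClSub.idealMod E) = -1
  iw : pr k (ClSub.idealMod E) W = 1
  eulerO : Curv2.euler k X (Coh.structureModule X) = 1
  neg : ∀ L : X.Modules, PicF.IsInvertible L → pr k L H < 0 → Subsingleton (Coh.HH X L 0)
  pos : ∀ C : X.IdealSheafData, IsCurve C → C ≠ E → 0 < degOn k C H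

/-- `K` has class `(q, e)`. -/
def Cls (H : X.Modules) (E : X.IdealSheafData) (K : X.Modules) (q e : ℤ) : Prop :=
  PicF.IsInvertible K ∧ pr k K H = q ∧ pr k K (ClSub.idealMod E) = e ∧
    2 * Curv2.euler k X K = q * q - e * e + 3 * q + e + 2

/-- The dimension of the space of sections. -/
abbrev h0 (K : X.Modules) : ℕ := Module.finrank k (Coh.HH X K 0)

variable {k}
variable {H W : X.Modules} {E : X.IdealSheafData}

theorem Ctx.invI (c : Ctx k H W E) : PicF.IsInvertible (ClSub.idealMod E) :=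
  isInvertible_ideal k (isEffCartier_curve k c.dim c.curve)

theorem Ctx.invW (c : Ctx k H W E) : PicF.IsInvertible W :=
  H28RR.isInvertible_canonical k c.dim c.canon

theorem Ctx.euler_quot (c : Ctx k H W E) : Curv2.euler k X (ClSub.quotMod E) = 1 := by
  have h := H28RR.euler_quot k c.dim c.canon (isEffCartier_curve k c.dim c.curve)
  rw [c.iw, c.ii] at h
  omega

theorem Ctx.euler_ideal (c : Ctx k H W E) : Curv2.euler k X (ClSub.idealMod E) = 0 := by
  haveI := H28Int.isNoetherian k (X := X)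
  haveI := H10Coh.epi_toSubscheme E
  have h := H25Euler.euler_add (k := k) (H10Coh.shortExact_kernel (ClSub.toSubscheme E))
    (H11Ample.isCoh_of_isInvertible c.invI) (H10Coh.isCoh_structureModule' X) (isCoh_quot k E)
  change Curv2.euler k X (Coh.structureModule X) =
    Curv2.euler k X (ClSub.idealMod E) + Curv2.euler k X (ClSub.quotMod E) at h
  rw [c.eulerO, c.euler_quot] at h
  omega

theorem Cls.congr (c : Ctx k H W E) {K K' : X.Modules} {q e : ℤ} (h : Cls k H E K q e) (φ : K ≅ K')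
    (hK' : PicF.IsInvertible K') : Cls k H E K' q e :=
  ⟨hK', (pr_congr_left k c.invH φ).symm.trans h.2.1, (pr_congr_left k c.invI φ).symm.trans h.2.2.1,
    by rw [← H25Euler.euler_congr φ]; exact h.2.2.2⟩

theorem cls_structure (c : Ctx k H W E) : Cls k H E (Coh.structureModule X) 0 0 :=
  ⟨H28Int.isInvertible_structureModule X, pr_structure_left k c.invH, pr_structure_left k c.invI,
    by rw [c.eulerO]; norm_num⟩

theorem Cls.ideal_tensor (c : Ctx k H W E) {K : X.Modules} {q e : ℤ} (h : Cls k H E K q e) :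
    Cls k H E (CohB1.tensorMod (ClSub.idealMod E) K) q (e - 1) := by
  obtain ⟨hK, hq, he, hχ⟩ := h
  refine ⟨H11Ample.isInvertible_tensor c.invI hK, ?_, ?_, ?_⟩
  · rw [pr_tensor_left k c.dim c.invI hK c.invH, c.ih, hq, zero_add]
  · rw [pr_tensor_left k c.dim c.invI hK c.invI, c.ii, he]
    ring
  · rw [H28RR.euler_tensor, c.euler_ideal, c.eulerO, pr_symm k (ClSub.idealMod E) K, he]
    linear_combination hχ

theorem Cls.tensor_ideal (c : Ctx k H W E) {K : X.Modules} {q e : ℤ} (h : Cls k H E K q e) :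
    Cls k H E (CohB1.tensorMod K (ClSub.idealMod E)) q (e - 1) :=
  (h.ideal_tensor c).congr c (H10Coh.Tw.commIso _ _) (H11Ample.isInvertible_tensor h.1 c.invI)

theorem Cls.tensor_inverse (c : Ctx k H W E) {L : X.Modules}
    (hL : ClSub.IsInverseOf L (ClSub.idealMod E)) {K : X.Modules} {q e : ℤ} (h : Cls k H E K q e) :
    Cls k H E (CohB1.tensorMod K L) q (e + 1) := by
  obtain ⟨hK, hq, he, hχ⟩ := h
  obtain ⟨φ⟩ := hL
  have hLi : PicF.IsInvertible L := H17.InvertibleTensor.isInvertible_of_tensor_iso L _ φ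
  have ψ : CohB1.tensorMod (ClSub.idealMod E) L ≅ Coh.structureModule X := H10Coh.Tw.commIso _ L ≪≫ φ
  have hLpr : ∀ B : X.Modules, PicF.IsInvertible B → pr k L B = - pr k (ClSub.idealMod E) B := fun B hB =>
    pr_inv_left k c.dim c.invI hLi hB ψ
  have hLχ : Curv2.euler k X L = 1 := by
    have h1 := H28RR.euler_tensor k L (ClSub.idealMod E)
    rw [H25Euler.euler_congr φ, c.eulerO, c.euler_ideal, hLpr _ c.invI, c.ii] at h1
    omega
  refine ⟨H11Ample.isInvertible_tensor hK hLi, ?_, ?_, ?_⟩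
  · rw [pr_tensor_left k c.dim hK hLi c.invH, hLpr _ c.invH, c.ih, hq]
    ring
  · rw [pr_tensor_left k c.dim hK hLi c.invI, hLpr _ c.invI, c.ii, he]
    ring
  · rw [H28RR.euler_tensor, hLχ, c.eulerO, pr_symm k K L, hLpr _ hK, pr_symm k (ClSub.idealMod E) K, he]
    linear_combination hχ

/-- The class of the Serre dual. -/
theorem Cls.dual (c : Ctx k H W E) {K N : X.Modules} {q e : ℤ} (h : Cls k H E K q e)
    (hN : PicF.IsInvertible N) (φ : CohB1.tensorMod K N ≅ Coh.structureModule X) :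
    Cls k H E (CohB1.tensorMod W N) (-3 - q) (1 - e) := by
  obtain ⟨hK, hq, he, hχ⟩ := h
  have hWN := H11Ample.isInvertible_tensor c.invW hN
  have hNpr : ∀ B : X.Modules, PicF.IsInvertible B → pr k N B = - pr k K B := fun B hB =>
    pr_inv_left k c.dim hK hN hB φ
  refine ⟨hWN, ?_, ?_, ?_⟩
  · rw [pr_tensor_left k c.dim c.invW hN c.invH, hNpr _ c.invH, hq, pr_symm k W H, c.hw]
    ring
  · rw [pr_tensor_left k c.dim c.invW hN c.invI, hNpr _ c.invI, he, pr_symm k W (ClSub.idealMod E), c.iw]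
    ring
  · have r1 := H28RR.riemann_roch' k c.dim c.canon hK
    have r2 := H28RR.riemann_roch' k c.dim c.canon hWN
    rw [pr_tensor_left k c.dim c.invW hN hWN, pr_symm k W (CohB1.tensorMod W N),
      pr_symm k N (CohB1.tensorMod W N), pr_tensor_left k c.dim c.invW hN hN, pr_symm k W N, hNpr _ c.invW,
      hNpr _ hN, pr_symm k K N, hNpr _ hK] at r2
    rw [c.eulerO] at r1 r2
    linear_combination r2 - r1 + hχ

theorem Ctx.clsH (c : Ctx k H W E) : Cls k H E H 1 0 := by
  refine ⟨c.invH, c.hh, by rw [pr_symm]; exact c.ih, ?_⟩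
  have r := H28RR.riemann_roch' k c.dim c.canon c.invH
  rw [c.hh, c.hw, c.eulerO] at r
  linarith

theorem finite_h (K : X.Modules) (hK : PicF.IsInvertible K) (n : ℕ) : FiniteDimensional k (Coh.HH X K n) :=
  haveI := H28Int.isNoetherian k (X := X)
  H10Coh.finite_HH_proper k X K (H11Ample.isCoh_of_isInvertible hK) n

theorem h0_eq_zero_of_neg (c : Ctx k H W E) {K : X.Modules} {q e : ℤ} (h : Cls k H E K q e) (hq : q < 0) :
    h0 k K = 0 := by
  haveI := c.neg K h.1 (by rw [h.2.1]; exact hq)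
  exact Module.finrank_zero_of_subsingleton

/-- The pencil of lines through the point is nef. -/
theorem nef (c : Ctx k H W E) {M : X.Modules} (hM : PicF.IsInvertible M) (hsec : Nontrivial (Coh.HH X M 0)) :
    0 ≤ pr k M H + pr k M (ClSub.idealMod E) := by
  classical
  haveI := H28Int.isNoetherian k (X := X)
  have hreg : ∀ x : X, IsRegularLocalRing (X.presheaf.stalk x) :=
    fun x => H19Grp.isRegularLocalRing_stalk_of_smooth (X ↘ Spec (CommRingCat.of k)) x
  let N := CohB1.tensorMod (ClSub.idealMod E) H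
  have hN : Cls k H E N 1 (0 - 1) := c.clsH.ideal_tensor c
  have hNpr : ∀ B : X.Modules, PicF.IsInvertible B → pr k N B = pr k (ClSub.idealMod E) B + pr k H B :=
    fun B hB => pr_tensor_left k c.dim c.invI c.invH hB
  obtain ⟨N', hN', ⟨e₀⟩⟩ := H11Sym.exists_inverse hN.1
  have eN : CohB1.tensorMod N N' ≅ Coh.structureModule X := H10Coh.Tw.commIso N N' ≪≫ e₀
  have h2 : Module.finrank k (Coh.HH X N 2) = 0 := by
    rw [H28RR.finrank_h2 k c.dim c.canon hN.1 hN' eN]
    exact h0_eq_zero_of_neg c (hN.dual c hN' eN) (by norm_num)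
  have he := H28RR.euler_eq_three k c.dim (H11Ample.isCoh_of_isInvertible hN.1)
  have hχ := hN.2.2.2
  rw [h2] at he
  have hNsec : Nontrivial (Coh.HH X N 0) :=
    Module.nontrivial_of_finrank_pos (R := k) (by push_cast at he; omega)
  obtain ⟨Z, hZ, ⟨eZ⟩⟩ := H28RR.exists_divisor k hN.1 hNsec
  have hZi := isInvertible_ideal k hZ
  have hZpr : ∀ B : X.Modules, PicF.IsInvertible B → pr k (ClSub.idealMod Z) B = - pr k N B :=
    fun B hB => pr_inv_left k c.dim hN.1 hZi hB eZ
  obtain ⟨S, hS, rfl⟩ := H28Reg.exists_multiset k hreg c.dim Z hZ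
  have hneg : ∀ C ∈ S.filter (fun C => ¬ C = E), pr k (ClSub.idealMod C) H ≤ -1 := fun C hC => by
    obtain ⟨hCS, hCE⟩ := Multiset.mem_filter.1 hC
    have := c.pos C (hS C hCS) hCE
    rw [H28RR.degOn_eq_pr k c.dim (hS C hCS) c.invH] at this
    omega
  have hsplit : ∀ B : X.Modules, PicF.IsInvertible B →
      - pr k N B = ((S.filter (fun C => ¬ C = E)).map fun C => pr k (ClSub.idealMod C) B).sum +
        (Multiset.card (S.filter (fun C => C = E)) : ℤ) * pr k (ClSub.idealMod E) B := fun B hB => by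
    rw [← hZpr B hB, H28Reg.pr_prod_left k hreg c.dim S hS hB]
    conv_lhs => rw [← Multiset.filter_add_not (fun C => C = E) S]
    rw [Multiset.map_add, Multiset.sum_add, add_comm,
      show (S.filter (fun C => C = E)).map (fun C => pr k (ClSub.idealMod C) B) =
          (S.filter (fun C => C = E)).map (fun _ => pr k (ClSub.idealMod E) B) from
        Multiset.map_congr rfl fun C hC => by rw [(Multiset.mem_filter.1 hC).2],
      Multiset.map_const', Multiset.sum_replicate, nsmul_eq_mul]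
  have hH := hsplit H c.invH
  rw [hN.2.1, c.ih, mul_zero, add_zero] at hH
  have hcard : ((S.filter (fun C => ¬ C = E)).map fun C => pr k (ClSub.idealMod C) H).sum ≤
      Multiset.card ((S.filter (fun C => ¬ C = E)).map fun C => pr k (ClSub.idealMod C) H) • (-1 : ℤ) :=
    Multiset.sum_le_card_nsmul _ _ fun a ha => by
      obtain ⟨C, hC, rfl⟩ := Multiset.mem_map.1 ha
      exact hneg C hC
  rw [Multiset.card_map, nsmul_eq_mul, ← hH] at hcard
  have hone : Multiset.card (S.filter (fun C => ¬ C = E)) = 1 := by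
    rcases hc0 : Multiset.card (S.filter (fun C => ¬ C = E)) with _ | n
    · rw [Multiset.card_eq_zero.1 hc0, Multiset.map_zero, Multiset.sum_zero] at hH
      omega
    · rw [hc0] at hcard
      push_cast at hcard
      omega
  obtain ⟨C, hC⟩ := Multiset.card_eq_one.1 hone
  obtain ⟨hCS, hCE⟩ := Multiset.mem_filter.1 (show C ∈ S.filter (fun C => ¬ C = E) by rw [hC]; simp)
  have hCc := hS C hCS
  have hCi := isInvertible_ideal k (isEffCartier_curve k c.dim hCc)
  have hCpr : ∀ B : X.Modules, PicF.IsInvertible B → pr k (ClSub.idealMod C) B =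
      - pr k N B - (Multiset.card (S.filter (fun C => C = E)) : ℤ) * pr k (ClSub.idealMod E) B := fun B hB => by
    have h := hsplit B hB
    rw [hC, Multiset.map_singleton, Multiset.sum_singleton] at h
    omega
  obtain ⟨a, ha⟩ : ∃ a : ℕ, Multiset.card (S.filter (fun C => C = E)) = a := ⟨_, rfl⟩
  rw [ha] at hCpr
  have hCI : pr k (ClSub.idealMod C) (ClSub.idealMod E) = 1 + (a : ℤ) := by
    rw [hCpr _ c.invI, hN.2.2.1, c.ii]
    ring
  have hCN : pr k (ClSub.idealMod C) N = (a : ℤ) := by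
    rw [hCpr _ hN.1, pr_symm k (ClSub.idealMod E) N, hN.2.2.1]
    have : pr k N N = 0 := by
      rw [hNpr _ hN.1, pr_symm k (ClSub.idealMod E) N, pr_symm k H N, hN.2.1, hN.2.2.1]
      ring
    rw [this]
    ring
  have hCC : pr k (ClSub.idealMod C) (ClSub.idealMod C) = -(a : ℤ) - (a : ℤ) * (1 + (a : ℤ)) := by
    rw [hCpr _ hCi, pr_symm k N, hCN, pr_symm k (ClSub.idealMod E) (ClSub.idealMod C), hCI]
  have hCW : pr k (ClSub.idealMod C) W = 2 - (a : ℤ) := by
    rw [hCpr _ c.invW, hNpr _ c.invW, c.iw, c.hw]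
    ring
  have hq := H28RR.euler_quot k c.dim c.canon (isEffCartier_curve k c.dim hCc)
  have hle := (euler_le_one k c.dim hCc).1
  rw [hCW, hCC] at hq
  have ha0 : a = 0 := by
    by_contra hne
    have h1 : (1 : ℤ) ≤ a := by omega
    nlinarith
  subst ha0
  rw [Nat.cast_zero, zero_mul, neg_zero, sub_zero] at hCC
  by_contra hlt
  have hd : degOn k C M < 0 := by
    rw [H28RR.degOn_eq_pr k c.dim hCc hM, hCpr M hM, hNpr M hM, Nat.cast_zero, zero_mul, sub_zero, neg_neg,
      pr_symm k (ClSub.idealMod E) M, pr_symm k H M]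
    omega
  have := H28RR.self_neg_of_section k c.dim hM hsec hCc hd
  omega

theorem h0_eq_zero (c : Ctx k H W E) {K : X.Modules} {q e : ℤ} (h : Cls k H E K q e) (hqe : q < 0 ∨ q + e < 0) :
    h0 k K = 0 := by
  rcases hqe with hq | hqe
  · exact h0_eq_zero_of_neg c h hq
  by_contra hne
  haveI := finite_h (k := k) K h.1 0
  have := nef c h.1 (Module.nontrivial_of_finrank_pos (R := k) (Nat.pos_of_ne_zero hne))
  rw [h.2.1, h.2.2.1] at this
  omega

theorem h2_eq (c : Ctx k H W E) {K : X.Modules} {q e : ℤ} (h : Cls k H E K q e) :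
    ∃ K' : X.Modules, Cls k H E K' (-3 - q) (1 - e) ∧ Module.finrank k (Coh.HH X K 2) = h0 k K' := by
  obtain ⟨N, hN, ⟨e₀⟩⟩ := H11Sym.exists_inverse h.1
  have eN : CohB1.tensorMod K N ≅ Coh.structureModule X := H10Coh.Tw.commIso K N ≪≫ e₀
  exact ⟨_, h.dual c hN eN, H28RR.finrank_h2 k c.dim c.canon h.1 hN eN⟩

/-- The restriction sequence to the exceptional curve, on sections. -/
theorem step (c : Ctx k H W E) {K : X.Modules} {q e : ℤ} (h : Cls k H E K q e) :
    h0 k (CohB1.tensorMod (ClSub.idealMod E) K) ≤ h0 k K ∧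
      (0 < e → h0 k K ≤ h0 k (CohB1.tensorMod (ClSub.idealMod E) K)) ∧
      (e ≤ 0 → (h0 k K : ℤ) ≤ h0 k (CohB1.tensorMod (ClSub.idealMod E) K) + 1 - e) := by
  haveI := H28Int.isNoetherian k (X := X)
  haveI := H10Coh.epi_toSubscheme E
  have hS := H28Int.tensor_shortExact (H10Coh.shortExact_kernel (ClSub.toSubscheme E)) h.1
  have hIK := H11Ample.isInvertible_tensor c.invI h.1
  have hQ := H11Ample.isCoh_tensor (isCoh_quot k E) h.1
  have hOK : Coh.IsCoh (CohB1.tensorMod (Coh.structureModule X) K) :=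
    H11Ample.isCoh_tensor (H10Coh.isCoh_structureModule' X) h.1
  have hOKf := H22Alg.CurveAmple.finrank_HH_congr (k := k) (H10Coh.Tw.leftUnitIso K) 0
  have hle := finrank_zero_le k hS (H11Ample.isCoh_of_isInvertible hIK) hOK hQ
  change Module.finrank k (Coh.HH X (CohB1.tensorMod (Coh.structureModule X) K) 0) ≤
    Module.finrank k (Coh.HH X (CohB1.tensorMod (ClSub.idealMod E) K) 0) +
      Module.finrank k (Coh.HH X (CohB1.tensorMod (ClSub.quotMod E) K) 0) at hle
  rw [hOKf] at hle
  have hdeg : degOn k E K = - e := by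
    rw [H28RR.degOn_eq_pr k c.dim c.curve h.1, pr_symm, h.2.2.1]
  refine ⟨?_, fun he => ?_, fun he => ?_⟩
  · haveI := hS.mono_f
    haveI := H10Coh.finite_HH_proper k X _ hOK 0
    have hmono : ∀ {S : ShortComplex X.Modules}, S.ShortExact → FiniteDimensional k (Coh.HH X S.X₂ 0) →
        Module.finrank k (Coh.HH X S.X₁ 0) ≤ Module.finrank k (Coh.HH X S.X₂ 0) := fun {S} h h' =>
      haveI := h.mono_f
      haveI := h'
      finrank_h0_le_of_mono S.f
    exact (hmono hS (H10Coh.finite_HH_proper k X _ hOK 0)).trans hOKf.le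
  · haveI := subsingleton_zero_of_neg k c.curve h.1 (by omega)
    rw [Module.finrank_zero_of_subsingleton (R := k) (M := Coh.HH X (CohB1.tensorMod (ClSub.quotMod E) K) 0),
      add_zero] at hle
    exact hle
  · haveI := subsingleton_one_of_deg k c.dim c.curve c.euler_quot h.1 (by omega)
    have he' := euler_eq_sub' k c.dim (isEffCartier_curve k c.dim c.curve) hQ
      (fun x hx => (support_quot k E).subset (H25Euler.support_tensor_subset _ K hx))
    rw [Module.finrank_zero_of_subsingleton (R := k) (M := Coh.HH X (CohB1.tensorMod (ClSub.quotMod E) K) 1)] at he'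
    have hd : degOn k E K = Curv2.euler k X (CohB1.tensorMod (ClSub.quotMod E) K) -
      Curv2.euler k X (ClSub.quotMod E) := rfl
    rw [c.euler_quot] at hd
    push_cast at he'
    unfold h0 at *
    omega

theorem h0_ge (c : Ctx k H W E) {K : X.Modules} {q e : ℤ} (h : Cls k H E K q e) (hq : -2 ≤ q) :
    q * q - e * e + 3 * q + e + 2 ≤ 2 * (h0 k K : ℤ) := by
  obtain ⟨K', hK', h2⟩ := h2_eq c h
  have he := H28RR.euler_eq_three k c.dim (H11Ample.isCoh_of_isInvertible h.1)
  rw [h2, h0_eq_zero c hK' (Or.inl (by omega))] at he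
  have := h.2.2.2
  push_cast at he
  unfold h0 at *
  omega

theorem h0_le (c : Ctx k H W E) : ∀ (n : ℕ) {K : X.Modules} {q e : ℤ}, Cls k H E K q e → 0 ≤ q → e ≤ 0 →
    q + e + 1 = n → 2 * (h0 k K : ℤ) ≤ (q + 2) * (q + 1) - (-e) * (-e + 1)
  | 0, K, q, e, h, _, _, hn => by
    rw [h0_eq_zero c h (Or.inr (by omega))]
    obtain rfl : e = -q - 1 := by omega
    push_cast
    nlinarith
  | n + 1, K, q, e, h, hq, he, hn => by
    have h1 := h0_le c n (h.ideal_tensor c) hq (by omega) (by push_cast at hn ⊢; omega)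
    have h2 := (step c h).2.2 he
    nlinarith

theorem h0_nonpos (c : Ctx k H W E) {K : X.Modules} {q e : ℤ} (h : Cls k H E K q e) (hq : 0 ≤ q) (he : e ≤ 0)
    (hqe : -1 ≤ q + e) : 2 * (h0 k K : ℤ) = (q + 2) * (q + 1) - (-e) * (-e + 1) := by
  refine le_antisymm (h0_le c (q + e + 1).toNat h hq he (Int.toNat_of_nonneg (by omega)).symm) ?_
  have := h0_ge c h (by omega)
  linarith

theorem h0_nonneg (c : Ctx k H W E) : ∀ (n : ℕ) {K : X.Modules} {q e : ℤ}, Cls k H E K q e → 0 ≤ q →
    e = n → 2 * (h0 k K : ℤ) = (q + 2) * (q + 1)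
  | 0, K, q, e, h, hq, he => by
    rw [h0_nonpos c h hq (by omega) (by omega)]
    obtain rfl : e = 0 := by omega
    ring
  | n + 1, K, q, e, h, hq, he => by
    have h1 := h0_nonneg c n (h.ideal_tensor c) hq (by push_cast at he ⊢; omega)
    obtain ⟨h2, h3, -⟩ := step c h
    have := h3 (by omega)
    omega

theorem euler_two (c : Ctx k H W E) {K : X.Modules} {q e : ℤ} (h : Cls k H E K q e) :
    q * q - e * e + 3 * q + e + 2 = 2 * (h0 k K : ℤ) - 2 * Module.finrank k (Coh.HH X K 1) +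
      2 * Module.finrank k (Coh.HH X K 2) := by
  rw [← h.2.2.2, H28RR.euler_eq_three k c.dim (H11Ample.isCoh_of_isInvertible h.1)]
  ring

theorem two_mul_choose_two : ∀ n : ℕ, 2 * ((n.choose 2 : ℕ) : ℤ) = (n : ℤ) * ((n : ℤ) - 1)
  | 0 => by simp
  | n + 1 => by
    rw [Nat.choose_succ_succ, Nat.choose_one_right]
    push_cast
    linear_combination two_mul_choose_two n

theorem two_mul_choose_toNat {m : ℤ} (hm : 0 ≤ m) : 2 * ((m.toNat.choose 2 : ℕ) : ℤ) = m * (m - 1) := by
  rw [two_mul_choose_two, Int.toNat_of_nonneg hm]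

theorem choose_toNat_eq_zero {m : ℤ} (hm : m < 2) : m.toNat.choose 2 = 0 :=
  Nat.choose_eq_zero_of_lt (by omega)

section blowUp

variable {σ : X ⟶ CohB1.ProjSpace 2 k} {x : CohB1.ProjSpace 2 k}
  {hx : IsClosed ({x} : Set ↥(CohB1.ProjSpace 2 k))}

/-- The numerical facts hold on the blown up plane. -/
theorem exists_ctx (hσk : σ ≫ CohB1.ProjSpace.toSpec 2 k = X ↘ Spec (CommRingCat.of k))
    (hσ : BlowUp.IsBlowUp σ (Scheme.IdealSheafData.vanishingIdeal ⟨{x}, hx⟩))
    (hdim : topologicalKrullDim X = 2) :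
    ∃ W : X.Modules, Ctx k ((Scheme.Modules.pullback σ).obj (Twist.twistProjSpace 2 k 1)) W
      (BlowUp.exceptional σ (Scheme.IdealSheafData.vanishingIdeal ⟨{x}, hx⟩)) := by
  classical
  let Q := CohB1.ProjSpace 2 k
  haveI := H28Int.isNoetherian k (X := X)
  haveI := H28Int.isNoetherian k (X := Q)
  haveI : IsIntegral Q := LeadPic.PnRel.isIntegral_projSpace (n := 2) k
  haveI : Smooth (Q ↘ Spec (CommRingCat.of k)) := H26Smooth.smooth_toSpec 2 k
  have hdQ : topologicalKrullDim Q = 2 := by exact_mod_cast S10829.result k 2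
  have hrange : Set.range (fun _ : Fin 1 => x) = {x} := Set.range_const
  have hZ : IsClosed (Set.range fun _ : Fin 1 => x) := hrange ▸ hx
  have hσ' : BlowUp.IsBlowUp σ (Scheme.IdealSheafData.vanishingIdeal ⟨_, hZ⟩) := by
    have : (⟨_, hZ⟩ : TopologicalSpace.Closeds Q) = ⟨{x}, hx⟩ := TopologicalSpace.Closeds.ext hrange
    rw [this]; exact hσ
  obtain ⟨hH, hHH, hO, hHW⟩ := H28RR.PlaneBlow.facts k 1 (fun _ => x) (fun _ => hx) hZ X σ hσk hσ' hdim
  obtain ⟨W, hW⟩ := H28RR.exists_canonical k hdim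
  have hT : PicF.IsInvertible (Twist.twistProjSpace 2 k 1) := H22Alg.RegSheaf.isInvertible_twistProjSpace 2 k 1
  have hE := H28RR.exc_isCurve k hdQ hσ
  have hI := isInvertible_ideal k (isEffCartier_curve k hdim hE)
  have hIH : pr k (ClSub.idealMod (BlowUp.exceptional σ (Scheme.IdealSheafData.vanishingIdeal ⟨{x}, hx⟩)))
      ((Scheme.Modules.pullback σ).obj (Twist.twistProjSpace 2 k 1)) = 0 :=
    (pr_symm k _ _).trans (H28RR.pr_pullback_exc k hdQ hdim hσk hσ hT)
  refine ⟨W, ⟨hdim, hE, hH, hW, hHH, hHW W hW, hIH, H28RR.pr_exc_self k hdQ hdim hσ, ?_, hO, ?_, ?_⟩⟩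
  · obtain ⟨W₀, hW₀⟩ := H28RR.exists_canonical k hdQ
    obtain ⟨φ⟩ := H28RR.canonical_blowup k hdQ hdim hσk hσ hW₀ hW
    have hWi := H28RR.isInvertible_canonical k hdim hW
    have h := pr_congr_left k hI φ
    rw [pr_tensor_left k hdim hWi hI hI, H28RR.pr_exc_self k hdQ hdim hσ,
      H28RR.pr_pullback_exc k hdQ hdim hσk hσ (H28RR.isInvertible_canonical k hdQ hW₀)] at h
    rw [pr_symm k]
    omega
  · intro L hL hLH
    exact S16558.result k 1 (fun _ => x) (Function.injective_of_subsingleton _) (fun _ => hx) hZ X σ hσk hσ' hdim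
      L hL (by rw [intNum_eq_pr k hdim hL hH]; exact hLH)
  · intro C hC hne
    obtain ⟨D, b, hD, ⟨φ⟩, -, -⟩ := H28RR.exists_curve_class k hdQ hdim hσk hσ hC hne
    have hEb := isEffCartier_pow k hdim hE b
    have hDi := isInvertible_ideal k (isEffCartier_curve k hdQ hD)
    have h1 : pr k (ClSub.idealMod (C * BlowUp.exceptional σ (Scheme.IdealSheafData.vanishingIdeal ⟨{x}, hx⟩) ^ b))
        ((Scheme.Modules.pullback σ).obj (Twist.twistProjSpace 2 k 1)) =
        pr k (ClSub.idealMod D) (Twist.twistProjSpace 2 k 1) :=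
      (pr_congr_left k hH φ).symm.trans (H28RR.pr_pullback k hdQ hdim hσk hσ hDi hT)
    rw [H28Reg.pr_mul_left k hdim (isEffCartier_curve k hdim hC) hEb hH, ← Multiset.prod_replicate,
      H28Reg.pr_prod_left k (fun z => H19Grp.isRegularLocalRing_stalk_of_smooth (X ↘ Spec (CommRingCat.of k)) z)
        hdim _ (fun D' hD' => (Multiset.eq_of_mem_replicate hD').symm ▸ hE) hH,
      Multiset.map_replicate, Multiset.sum_replicate, hIH, smul_zero, add_zero] at h1
    have hamp := H28RR.ample_deg_pos k hdQ (H11Ample.isAmple_twistProjSpace 2 k) hD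
    rw [H28RR.degOn_eq_pr k hdQ hD hT] at hamp
    rw [H28RR.degOn_eq_pr k hdim hC hH, h1]
    exact hamp

/-- Twice the Euler characteristic of the twists of the plane. -/
theorem two_mul_euler_twist (d : ℤ) :
    2 * Curv2.euler k (CohB1.ProjSpace 2 k) (Twist.twistProjSpace 2 k d) = (d + 2) * (d + 1) := by
  rw [H28RR.PlaneBlow.euler_twist]
  have h2 := Ring.descPochhammer_eq_factorial_smul_choose (R := ℤ) (d + 2) 2
  simp [descPochhammer, Nat.factorial, Polynomial.smeval_mul, Polynomial.smeval_sub, Polynomial.smeval_X, Polynomial.smeval_one] at h2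
  linarith

/-- Pullbacks of the twists of the plane. -/
theorem cls_twist (hσk : σ ≫ CohB1.ProjSpace.toSpec 2 k = X ↘ Spec (CommRingCat.of k))
    (hσ : BlowUp.IsBlowUp σ (Scheme.IdealSheafData.vanishingIdeal ⟨{x}, hx⟩))
    (hdim : topologicalKrullDim X = 2) {W : X.Modules}
    (c : Ctx k ((Scheme.Modules.pullback σ).obj (Twist.twistProjSpace 2 k 1)) W
      (BlowUp.exceptional σ (Scheme.IdealSheafData.vanishingIdeal ⟨{x}, hx⟩))) (d : ℤ) :
    Cls k ((Scheme.Modules.pullback σ).obj (Twist.twistProjSpace 2 k 1))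
      (BlowUp.exceptional σ (Scheme.IdealSheafData.vanishingIdeal ⟨{x}, hx⟩))
      ((Scheme.Modules.pullback σ).obj (Twist.twistProjSpace 2 k d)) d 0 := by
  classical
  let Q := CohB1.ProjSpace 2 k
  haveI : IsIntegral Q := LeadPic.PnRel.isIntegral_projSpace (n := 2) k
  haveI : Smooth (Q ↘ Spec (CommRingCat.of k)) := H26Smooth.smooth_toSpec 2 k
  have hdQ : topologicalKrullDim Q = 2 := by exact_mod_cast S10829.result k 2
  have hT : ∀ a : ℤ, PicF.IsInvertible (Twist.twistProjSpace 2 k a) :=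
    fun a => H22Alg.RegSheaf.isInvertible_twistProjSpace 2 k a
  let T : ℤ → X.Modules := fun a => (Scheme.Modules.pullback σ).obj (Twist.twistProjSpace 2 k a)
  have hTi : ∀ a, PicF.IsInvertible (T a) := fun a => H11Ample.isInvertible_pullback σ (hT a)
  have hadd : ∀ a : ℤ, pr k (T (a + 1)) (T 1) = pr k (T a) (T 1) + 1 := fun a => by
    obtain ⟨et⟩ := (H10Coh.Stab.isTwistFamily_projSpace 2 k).add a 1
    obtain ⟨ep⟩ := H11Ample.exists_iso_pullback_tensor σ (hT a) (hT 1)
    rw [← pr_congr_left k (hTi 1) (ep.symm ≪≫ (Scheme.Modules.pullback σ).mapIso et),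
      pr_tensor_left k hdim (hTi a) (hTi 1) (hTi 1), c.hh]
  have hdeg : ∀ a : ℤ, pr k (T a) (T 1) = a := by
    intro a
    induction a using Int.induction_on with
    | zero =>
      have h := hadd 0
      rw [zero_add, c.hh] at h
      omega
    | succ n ih => rw [hadd, ih]
    | pred n ih =>
      have h := hadd (-(n : ℤ) - 1)
      rw [sub_add_cancel, ih] at h
      omega
  refine ⟨hTi d, hdeg d, H28RR.pr_pullback_exc k hdQ hdim hσk hσ (hT d), ?_⟩
  have hrange : Set.range (fun _ : Fin 1 => x) = {x} := Set.range_const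
  have hZ : IsClosed (Set.range fun _ : Fin 1 => x) := hrange ▸ hx
  have hσ' : BlowUp.IsBlowUp σ (Scheme.IdealSheafData.vanishingIdeal ⟨_, hZ⟩) := by
    have : (⟨_, hZ⟩ : TopologicalSpace.Closeds Q) = ⟨{x}, hx⟩ := TopologicalSpace.Closeds.ext hrange
    rw [this]; exact hσ
  obtain ⟨-, -, -, htw, -⟩ := H28RR.PlaneBlow.facts_all k 1 (fun _ => x) (fun _ => hx) hZ X σ hσk hσ' hdim
  have h2 := two_mul_euler_twist (k := k) d
  rw [H28RR.PlaneBlow.euler_twist, ← htw d] at h2
  linarith

theorem cls_idealPow (c : Ctx k H W E) {K : X.Modules} {q : ℤ} (h : Cls k H E K q 0) :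
    ∀ b : ℕ, Cls k H E (CohB1.tensorMod K (ClSub.idealMod (E ^ b))) q (-(b : ℤ))
  | 0 => by
    obtain ⟨e₁⟩ := H28Reg.nonempty_idealMod_top (X := X)
    have e : K ≅ CohB1.tensorMod K (ClSub.idealMod (E ^ 0)) :=
      (H10Coh.Tw.rightUnitIso K).symm ≪≫ PicGrp.tensorModIso (Iso.refl K)
        (e₁.symm ≪≫ eqToIso (congrArg ClSub.idealMod (pow_zero E).symm))
    rw [Nat.cast_zero, neg_zero]
    exact h.congr c e (H11Ample.isInvertible_tensor h.1 (isInvertible_ideal k (isEffCartier_pow k c.dim c.curve 0)))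
  | b + 1 => by
    obtain ⟨e₁⟩ := H28Vert.nonempty_idealMod_mul (isEffCartier_pow k c.dim c.curve b)
      (isEffCartier_curve k c.dim c.curve)
    have e : CohB1.tensorMod (CohB1.tensorMod K (ClSub.idealMod (E ^ b))) (ClSub.idealMod E) ≅
        CohB1.tensorMod K (ClSub.idealMod (E ^ (b + 1))) :=
      H10Coh.Tw.assoc _ _ _ ≪≫ PicGrp.tensorModIso (Iso.refl K)
        (e₁ ≪≫ eqToIso (congrArg ClSub.idealMod (pow_succ E b).symm))
    have := ((cls_idealPow c h b).tensor_ideal c).congr c e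
      (H11Ample.isInvertible_tensor h.1 (isInvertible_ideal k (isEffCartier_pow k c.dim c.curve (b + 1))))
    rwa [show -((b + 1 : ℕ) : ℤ) = -(b : ℤ) - 1 by push_cast; ring]

theorem cls_inversePow (c : Ctx k H W E) {L : X.Modules} (hL : ClSub.IsInverseOf L (ClSub.idealMod E))
    {K : X.Modules} {q : ℤ} (h : Cls k H E K q 0) :
    ∀ b : ℕ, Cls k H E (CohB1.tensorMod K (CohB1.tensorPow L b)) q (b : ℤ)
  | 0 => by
    rw [Nat.cast_zero]
    exact h.congr c (H10Coh.Tw.rightUnitIso K).symm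
      (H11Ample.isInvertible_tensor h.1 (H28Int.isInvertible_structureModule X))
  | b + 1 => by
    obtain ⟨φ⟩ := hL
    have hLi : PicF.IsInvertible L := H17.InvertibleTensor.isInvertible_of_tensor_iso L _ φ
    have := ((cls_inversePow c ⟨φ⟩ h b).tensor_inverse c ⟨φ⟩).congr c
      (show CohB1.tensorMod (CohB1.tensorMod K (CohB1.tensorPow L b)) L ≅
        CohB1.tensorMod K (CohB1.tensorPow L (b + 1)) from H10Coh.Tw.assoc _ _ _)
      (H11Ample.isInvertible_tensor h.1 (H11Ample.isInvertible_tensorPow hLi (b + 1)))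
    rwa [Nat.cast_add, Nat.cast_one]

end blowUp

end Groth.Agent.H11Plane
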